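-- Team project CHO (S1082/S1083, helper99), packages [COMM-B2], [NORM-B2] (helper10):
-- diagonal isometries of `x_0^2 + x_1 y_1 + x_2 y_2` commute and normalize `R`.
import Mathlib
import Cfsg.Agent.Lib.Helper99.CHO.Defs2
import Cfsg.Agent.Lib.Helper10.CHO.Ro

set_option autoImplicit false
open scoped MatrixGroups
open Matrix

namespace Cfsg.Agent.Lib.Helper10.CHO

open Cfsg.Agent.Lib.Helper99.CHO

universe u

section

variable (K : Type u) [Field K]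

/-- a member of `DgB2` is a diagonal matrix -/
theorem dgB2_diag {d : GL (Unit ⊕ (Fin 2 ⊕ Fin 2)) K} (hd : d ∈ DgB2 K) :
    ∃ δ : Unit ⊕ (Fin 2 ⊕ Fin 2) → K,
      (d : Matrix (Unit ⊕ (Fin 2 ⊕ Fin 2)) (Unit ⊕ (Fin 2 ⊕ Fin 2)) K) = Matrix.diagonal δ := by
  refine ⟨fun i => (d : Matrix (Unit ⊕ (Fin 2 ⊕ Fin 2)) (Unit ⊕ (Fin 2 ⊕ Fin 2)) K) i i, ?_⟩
  ext i j
  by_cases hij : i = j
  · subst hij
    simp
  · rw [hd.2 i j hij, Matrix.diagonal_apply_ne _ hij]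

/-- the relations satisfied by a diagonal isometry -/
theorem dgB2_rel {d : GL (Unit ⊕ (Fin 2 ⊕ Fin 2)) K} (hd : d ∈ DgB2 K)
    (δ : Unit ⊕ (Fin 2 ⊕ Fin 2) → K)
    (hδ : (d : Matrix (Unit ⊕ (Fin 2 ⊕ Fin 2)) (Unit ⊕ (Fin 2 ⊕ Fin 2)) K) = Matrix.diagonal δ) :
    δ (Sum.inl ()) * δ (Sum.inl ()) = 1 ∧
    δ (Sum.inr (Sum.inl 0)) * δ (Sum.inr (Sum.inr 0)) = 1 ∧
    δ (Sum.inr (Sum.inl 1)) * δ (Sum.inr (Sum.inr 1)) = 1 := by
  have key : ∀ u : Unit ⊕ (Fin 2 ⊕ Fin 2) → K,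
      Cfsg.quadFormOdd 2 K (Matrix.diagonal δ *ᵥ u) = Cfsg.quadFormOdd 2 K u := by
    intro u
    rw [← hδ]
    exact hd.1 u u
  refine ⟨?_, ?_, ?_⟩
  · have h := key (Pi.single (Sum.inl ()) 1)
    simp [Cfsg.quadFormOdd, Matrix.mulVec_diagonal] at h
    rcases h with h | h <;> rw [h] <;> norm_num
  · have h := key (Pi.single (Sum.inr (Sum.inl 0)) 1 + Pi.single (Sum.inr (Sum.inr 0)) 1)
    simp [Cfsg.quadFormOdd, Matrix.mulVec_diagonal, Fin.sum_univ_two] at h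
    exact h
  · have h := key (Pi.single (Sum.inr (Sum.inl 1)) 1 + Pi.single (Sum.inr (Sum.inr 1)) 1)
    simp [Cfsg.quadFormOdd, Matrix.mulVec_diagonal, Fin.sum_univ_two] at h
    exact h

end

/-- [COMM-B2] -/
theorem pkgCommB2 : PkgCommB2.{u} := by
  intro K _ d₁ hd₁ d₂ hd₂
  obtain ⟨δ₁, h₁⟩ := dgB2_diag K hd₁
  obtain ⟨δ₂, h₂⟩ := dgB2_diag K hd₂
  have hc : d₁ * d₂ = d₂ * d₁ := by
    apply Units.ext
    rw [Units.val_mul, Units.val_mul, h₁, h₂, Matrix.diagonal_mul_diagonal,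
      Matrix.diagonal_mul_diagonal]
    congr 1
    funext i
    exact mul_comm _ _
  have h1 : d₁ * d₂ * d₁⁻¹ * d₂⁻¹ = 1 := by
    rw [hc]
    group
  rw [h1]
  exact Subgroup.one_mem _

section

variable (K : Type u) [Field K]

/-- the character by which a diagonal isometry acts on the root element `E_r` -/
def chiB2 (δ : Unit ⊕ (Fin 2 ⊕ Fin 2) → K) (r : ℕ) : K :=
  match r with
  | 0 => δ (Sum.inr (Sum.inr 0)) * δ (Sum.inr (Sum.inr 1))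
  | 1 => δ (Sum.inl ()) * δ (Sum.inr (Sum.inr 0))
  | 2 => δ (Sum.inl ()) * δ (Sum.inr (Sum.inr 1))
  | 3 => δ (Sum.inr (Sum.inl 1)) * δ (Sum.inr (Sum.inr 0))
  | 4 => δ (Sum.inr (Sum.inl 0)) * δ (Sum.inr (Sum.inr 1))
  | 5 => δ (Sum.inl ()) * δ (Sum.inr (Sum.inl 1))
  | 6 => δ (Sum.inl ()) * δ (Sum.inr (Sum.inl 0))
  | 7 => δ (Sum.inr (Sum.inl 0)) * δ (Sum.inr (Sum.inl 1))
  | _ => 1

set_option maxHeartbeats 1600000 in
theorem diag_conj_B2 (δ : Unit ⊕ (Fin 2 ⊕ Fin 2) → K)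
    (h0 : δ (Sum.inl ()) * δ (Sum.inl ()) = 1)
    (h1 : δ (Sum.inr (Sum.inl 0)) * δ (Sum.inr (Sum.inr 0)) = 1)
    (h2 : δ (Sum.inr (Sum.inl 1)) * δ (Sum.inr (Sum.inr 1)) = 1) (r : ℕ) (hr : r < 8) (t : K) :
    Matrix.diagonal δ * EB2mat K r t = EB2mat K r (chiB2 K δ r * t) * Matrix.diagonal δ := by
  have hb1 : δ (Sum.inr (Sum.inr 0)) = (δ (Sum.inr (Sum.inl 0)))⁻¹ := eq_inv_of_mul_eq_one_right h1
  have hb2 : δ (Sum.inr (Sum.inr 1)) = (δ (Sum.inr (Sum.inl 1)))⁻¹ := eq_inv_of_mul_eq_one_right h2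
  have ha1 : δ (Sum.inr (Sum.inl 0)) ≠ 0 := left_ne_zero_of_mul_eq_one h1
  have ha2 : δ (Sum.inr (Sum.inl 1)) ≠ 0 := left_ne_zero_of_mul_eq_one h2
  have h0' : δ (Sum.inl ()) = 1 ∨ δ (Sum.inl ()) = -1 := by
    have h : (δ (Sum.inl ()) - 1) * (δ (Sum.inl ()) + 1) = 0 := by linear_combination h0
    rcases mul_eq_zero.mp h with h | h
    · exact Or.inl (sub_eq_zero.mp h)
    · exact Or.inr (eq_neg_of_add_eq_zero_left h)
  rcases h0' with h0' | h0' <;> interval_cases r <;> ext i j <;>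
    rcases i with (⟨⟩ | (i | i)) <;> rcases j with (⟨⟩ | (j | j)) <;>
    (try fin_cases i) <;> (try fin_cases j) <;>
    simp [chiB2, EB2mat, NB2, MB2, ix5, tab3, nListB2, mListB2, Matrix.diagonal_mul,
      Matrix.mul_diagonal, h0', hb1, hb2] <;>
    (try field_simp)

end

/-- [NORM-B2] -/
theorem pkgNormB2_of (hU : PkgUnitB2.{u}) : PkgNormB2.{u} := by
  intro K _ d hd r t
  obtain ⟨δ, hδ⟩ := dgB2_diag K hd
  obtain ⟨h0, h1, h2⟩ := dgB2_rel K hd δ hδ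
  have hc := diag_conj_B2 K δ h0 h1 h2 r.val r.isLt t
  have hE : d * EB2 K r t = EB2 K r (chiB2 K δ r.val * t) * d := by
    apply Units.ext
    rw [Units.val_mul, Units.val_mul, coe_EB2 hU, coe_EB2 hU, hδ]
    exact hc
  have h3 : d * EB2 K r t * d⁻¹ = EB2 K r (chiB2 K δ r.val * t) := by
    rw [hE]
    group
  rw [h3]
  exact Subgroup.subset_closure ⟨(r, chiB2 K δ r.val * t), rfl⟩

end Cfsg.Agent.Lib.Helper10.CHO
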